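import Mathlib
import Cfsg.Agent.S0143
import Cfsg.Agent.S4465
import Cfsg.Agent.Lib.Helper80.ItoMichler

/-!
# Simple groups whose nonlinear irreducible characters all have prime degree (helper52)

A nonabelian finite simple group cannot have all its nonlinear irreducible character degrees
prime.  Route: no degree 2 (determinant + involution); `p` the least nonlinear degree, with a
faithful `χ` of degree `p`; Blichfeldt (S4465) gives an abelian Hall subgroup `A` for the primes
`> p + 1`, which contains Sylow subgroups for all other (odd prime) degrees `q`; for `1 ≠ h ∈ A`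
Burnside's vanishing lemma gives `ψ h = 0` for `ψ(1) = q`, and column orthogonality
`0 = 1 + p * (algebraic integer)` is absurd.
-/

set_option autoImplicit false
set_option linter.style.haveILetI false

namespace Cfsg.Agent.Lib.Helper52.PrimeDeg

open Cfsg
open scoped ComplexConjugate

universe u

section Simple

variable {G : Type u} [Group G] [Finite G] [IsSimpleGroup G]

/-- In a nonabelian simple group, an irreducible representation in which a nonidentity element
is scalar is the trivial one-dimensional representation. -/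
lemma deg_one_of_scalar (hnc : ¬ ∀ a b : G, a * b = b * a) {n : ℕ}
    (ρ : Representation ℂ G (Fin n → ℂ)) (hirr : ρ.IsIrreducible) (g : G) (hg : g ≠ 1)
    (hs : ∃ ω : ℂ, ρ g = ω • (LinearMap.id : (Fin n → ℂ) →ₗ[ℂ] (Fin n → ℂ))) :
    n = 1 ∧ ∀ x, ρ.character x = 1 := by
  classical
  have := Fintype.ofFinite G
  have htriv := Cfsg.Agent.S0143.rep_trivial_of_scalar hnc ρ g hg hs
  have hconst : ∀ x, ρ.character x = (n : ℂ) := by
    intro x
    show LinearMap.trace ℂ _ (ρ x) = _
    rw [htriv x]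
    simp
  have hirrc : IsIrrCharacter G ρ.character := ⟨n, ρ, hirr, rfl⟩
  have hself := Cfsg.Agent.Lib.Helper78.classInner_irr_self hirrc
  unfold Cfsg.classInner at hself
  simp only [hconst] at hself
  have hcard : (Nat.card G : ℂ) ≠ 0 := by
    have : Nat.card G ≠ 0 := Nat.card_pos.ne'
    exact_mod_cast this
  have hn2 : (n : ℂ) * (n : ℂ) = 1 := by
    simp only [Finset.sum_const, Finset.card_univ, nsmul_eq_mul, map_natCast] at hself
    rw [← Nat.card_eq_fintype_card, ← mul_assoc, inv_mul_cancel₀ hcard, one_mul] at hself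
    exact hself
  have hn1 : n = 1 := by
    have : n * n = 1 := by exact_mod_cast hn2
    exact Nat.eq_one_of_mul_eq_one_left this
  refine ⟨hn1, fun x => ?_⟩
  rw [hconst x, hn1]
  simp

/-- In a nonabelian simple group, an irreducible character with `‖χ g‖ = χ 1` at some `g ≠ 1`
is the principal character. -/
lemma eq_one_of_norm_eq (hnc : ¬ ∀ a b : G, a * b = b * a) (χ : IrrCharacter G) (g : G)
    (hg : g ≠ 1) (hnorm : ‖(χ : G → ℂ) g‖ = Cfsg.charDegree (χ : G → ℂ)) :
    ∀ x, (χ : G → ℂ) x = 1 := by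
  obtain ⟨n, ρ, hirr, hρ⟩ := χ.2
  have hdeg : Cfsg.charDegree (χ : G → ℂ) = n := by
    rw [← hρ]; exact Cfsg.Agent.Lib.Helper79.charDegree_of_rep ρ
  have hnorm' : ‖ρ.character g‖ = (Module.finrank ℂ (Fin n → ℂ) : ℝ) := by
    rw [hρ, hnorm, hdeg]; simp
  have hscal := (Cfsg.Agent.S0138.result ρ g).mp hnorm'
  have h := (deg_one_of_scalar hnc ρ hirr g hg hscal).2
  intro x
  rw [← hρ]
  exact h x

/-- A `2 × 2` complex matrix with square one and determinant one is scalar. -/
lemma scalar_of_sq_eq_one_of_det_eq_one (M : Matrix (Fin 2) (Fin 2) ℂ) (hsq : M * M = 1)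
    (hdet : M.det = 1) : ∃ ω : ℂ, M = ω • (1 : Matrix (Fin 2) (Fin 2) ℂ) := by
  have h00 := congrFun (congrFun hsq 0) 0
  have h01 := congrFun (congrFun hsq 0) 1
  have h10 := congrFun (congrFun hsq 1) 0
  have h11 := congrFun (congrFun hsq 1) 1
  simp only [Matrix.mul_apply, Fin.sum_univ_two, Matrix.one_apply_eq, Matrix.one_apply_ne,
    ne_eq, Fin.isValue, zero_ne_one, one_ne_zero, not_false_eq_true] at h00 h01 h10 h11
  rw [Matrix.det_fin_two] at hdet
  set a := M 0 0
  set b := M 0 1
  set c := M 1 0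
  set d := M 1 1
  have hs : a * (a + d) = 2 := by linear_combination h00 + hdet
  have hne : a + d ≠ 0 := by
    intro h0
    rw [h0, mul_zero] at hs
    norm_num at hs
  have hb : b = 0 := by
    have : b * (a + d) = 0 := by linear_combination h01
    rcases mul_eq_zero.mp this with h | h
    · exact h
    · exact absurd h hne
  have hc : c = 0 := by
    have : c * (a + d) = 0 := by linear_combination h10
    rcases mul_eq_zero.mp this with h | h
    · exact h
    · exact absurd h hne
  have had : a = d := by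
    have h1 : a * d = 1 := by rw [hb] at hdet; linear_combination hdet
    have h2 : a * a = 1 := by rw [hb] at h00; linear_combination h00
    have ha : a ≠ 0 := by
      intro h0
      rw [h0] at h2
      norm_num at h2
    have : a * (a - d) = 0 := by linear_combination h2 - h1
    rcases mul_eq_zero.mp this with h | h
    · exact absurd h ha
    · exact sub_eq_zero.mp h
  refine ⟨a, ?_⟩
  ext i j
  fin_cases i <;> fin_cases j
  · simp [a]
  · simpa using hb
  · simpa using hc
  · simp only [Fin.mk_one, Fin.isValue, Matrix.smul_apply, Matrix.one_apply_eq, smul_eq_mul,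
      mul_one]
    exact had.symm

/-- A nonabelian finite simple group has no irreducible character of degree `2`. -/
lemma charDegree_ne_two (hnc : ¬ ∀ a b : G, a * b = b * a) (χ : IrrCharacter G) :
    Cfsg.charDegree (χ : G → ℂ) ≠ 2 := by
  classical
  intro h2
  obtain ⟨n, ρ, hirr, hρ⟩ := χ.2
  have hdeg : Cfsg.charDegree (χ : G → ℂ) = n := by
    rw [← hρ]; exact Cfsg.Agent.Lib.Helper79.charDegree_of_rep ρ
  have hn : n = 2 := by rw [← hdeg, h2]
  subst hn
  -- an involution
  have hdvd : 2 ∣ Nat.card G := by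
    have := Cfsg.Agent.Lib.Helper79.irr_charDegree_dvd_card χ
    rwa [h2] at this
  haveI : Fact (Nat.Prime 2) := ⟨Nat.prime_two⟩
  obtain ⟨t, ht⟩ := exists_prime_orderOf_dvd_card' 2 hdvd
  have ht1 : t ≠ 1 := by
    intro h
    rw [h, orderOf_one] at ht
    norm_num at ht
  have htt : t * t = 1 := by
    have := pow_orderOf_eq_one t
    rw [ht, pow_two] at this
    exact this
  -- determinant is trivial
  let f : G →* ℂ := (LinearMap.det : ((Fin 2 → ℂ) →ₗ[ℂ] (Fin 2 → ℂ)) →* ℂ).comp ρ
  have hf : ∀ x, f x = 1 := by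
    let fu : G →* ℂˣ := f.toHomUnits
    rcases (MonoidHom.normal_ker fu).eq_bot_or_eq_top with hK | hK
    · exfalso
      have hinj : Function.Injective fu := (MonoidHom.ker_eq_bot_iff fu).mp hK
      apply hnc
      intro a b
      apply hinj
      rw [map_mul, map_mul, mul_comm]
    · intro x
      have hx : x ∈ MonoidHom.ker fu := by rw [hK]; exact Subgroup.mem_top x
      have := MonoidHom.mem_ker.mp hx
      have h3 : ((fu x : ℂˣ) : ℂ) = 1 := by rw [this]; rfl
      simpa [fu, MonoidHom.coe_toHomUnits] using h3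
  -- the matrix of `ρ t`
  set M := LinearMap.toMatrix' (ρ t) with hM
  have hsq : M * M = 1 := by
    rw [hM, ← LinearMap.toMatrix'_mul, ← map_mul, htt, map_one, LinearMap.toMatrix'_one]
  have hdet : M.det = 1 := by
    rw [hM, LinearMap.det_toMatrix']
    exact hf t
  obtain ⟨ω, hω⟩ := scalar_of_sq_eq_one_of_det_eq_one M hsq hdet
  have hs : ∃ ω : ℂ, ρ t = ω • (LinearMap.id : (Fin 2 → ℂ) →ₗ[ℂ] (Fin 2 → ℂ)) := by
    refine ⟨ω, ?_⟩
    apply LinearMap.toMatrix'.injective
    rw [← hM, hω, map_smul, LinearMap.toMatrix'_id]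
  have := (deg_one_of_scalar hnc ρ hirr t ht1 hs).1
  norm_num at this

/-- **Simple case.** A nonabelian finite simple group has a nonlinear irreducible character whose
degree is not prime. -/
theorem false_of_simple_of_prime_degrees (hnc : ¬ ∀ a b : G, a * b = b * a)
    (h : ∀ χ : IrrCharacter G, Cfsg.charDegree (χ : G → ℂ) ≠ 1 →
      (Cfsg.charDegree (χ : G → ℂ)).Prime) : False := by
  classical
  have := Fintype.ofFinite G
  let χ₀ : IrrCharacter G := ⟨fun _ => 1, Cfsg.Agent.Lib.Helper78.isIrrCharacter_one⟩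
  -- a nonlinear character of least degree
  have hex : ∃ χ : IrrCharacter G, Cfsg.charDegree (χ : G → ℂ) ≠ 1 := by
    by_contra hcon
    push Not at hcon
    exact hnc (Cfsg.Agent.Lib.Helper80.commutative_of_forall_charDegree_eq_one hcon)
  obtain ⟨χ1, hχ1⟩ := hex
  obtain ⟨χp, hχpmem, hmin⟩ := Finset.exists_min_image
    (Finset.univ.filter (fun χ : IrrCharacter G => Cfsg.charDegree (χ : G → ℂ) ≠ 1))
    (fun χ => Cfsg.charDegree (χ : G → ℂ)) ⟨χ1, by simp [hχ1]⟩
  have hχp : Cfsg.charDegree (χp : G → ℂ) ≠ 1 := by simpa using hχpmem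
  set p := Cfsg.charDegree (χp : G → ℂ) with hpdef
  have hp : p.Prime := h χp hχp
  have hp2 : p ≠ 2 := charDegree_ne_two hnc χp
  have hpodd : Odd p := hp.odd_of_ne_two hp2
  -- the other nonlinear degrees exceed `p + 1`
  have hbig : ∀ χ : IrrCharacter G, Cfsg.charDegree (χ : G → ℂ) ≠ 1 →
      Cfsg.charDegree (χ : G → ℂ) ≠ p → p + 1 < Cfsg.charDegree (χ : G → ℂ) := by
    intro χ hχ hne
    have hq := h χ hχ
    have hle : p ≤ Cfsg.charDegree (χ : G → ℂ) := hmin χ (by simp [hχ])
    have hq2 : Cfsg.charDegree (χ : G → ℂ) ≠ 2 := charDegree_ne_two hnc χ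
    have hqodd : Odd (Cfsg.charDegree (χ : G → ℂ)) := hq.odd_of_ne_two hq2
    rcases hpodd with ⟨a, ha⟩
    rcases hqodd with ⟨b, hb⟩
    omega
  -- `χp` is faithful
  have hfaith : ∀ g : G, (χp : G → ℂ) g = (χp : G → ℂ) 1 → g = 1 := by
    intro g hg
    by_contra hg1
    have hnorm : ‖(χp : G → ℂ) g‖ = Cfsg.charDegree (χp : G → ℂ) := by
      rw [hg, Cfsg.Agent.Lib.Helper79.irr_apply_one_eq_charDegree χp]
      simp
    have h1 := eq_one_of_norm_eq hnc χp g hg1 hnorm 1
    apply hχp
    rw [hpdef]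
    unfold Cfsg.charDegree
    rw [h1]
    simp
  obtain ⟨A, hAcomm, hAcard, hAidx⟩ := Cfsg.Agent.S4465.result (χp : G → ℂ)
    (Cfsg.Agent.Lib.Helper78.IsIrrCharacter.isCharacter χp.2) hfaith p rfl
  -- choose `h`
  obtain ⟨x, hx1, hxA⟩ : ∃ x : G, x ≠ 1 ∧ (A ≠ ⊥ → x ∈ A) := by
    by_cases hA : A = ⊥
    · obtain ⟨x, hx⟩ := exists_ne (1 : G)
      exact ⟨x, hx, fun h => absurd hA h⟩
    · obtain ⟨x, hx1⟩ := (Subgroup.ne_bot_iff_exists_ne_one).mp hA
      exact ⟨x.1, fun h => hx1 (Subtype.ext h), fun _ => x.2⟩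
  -- for every non-principal χ: χ x = 0 or p ∣ degree
  have key : ∀ χ : IrrCharacter G, χ ≠ χ₀ →
      (χ : G → ℂ) x = 0 ∨ p ∣ Cfsg.charDegree (χ : G → ℂ) := by
    intro χ hχ
    by_cases hd : Cfsg.charDegree (χ : G → ℂ) = p
    · exact Or.inr (hd ▸ dvd_rfl)
    left
    have hcop : Nat.Coprime (Cfsg.charDegree (χ : G → ℂ))
        (Subgroup.centralizer ({x} : Set G)).index := by
      by_cases hd1 : Cfsg.charDegree (χ : G → ℂ) = 1
      · rw [hd1]; exact Nat.coprime_one_left _
      have hq := h χ hd1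
      have hlt := hbig χ hd1 hd
      have hqG : Cfsg.charDegree (χ : G → ℂ) ∣ Nat.card G :=
        Cfsg.Agent.Lib.Helper79.irr_charDegree_dvd_card χ
      have hnidx : ¬ Cfsg.charDegree (χ : G → ℂ) ∣ A.index := by
        intro hdv
        have := hAidx _ hq hdv
        omega
      have hqA : Cfsg.charDegree (χ : G → ℂ) ∣ Nat.card A := by
        rw [← A.card_mul_index] at hqG
        rcases (Nat.Prime.dvd_mul hq).mp hqG with h1 | h1
        · exact h1
        · exact absurd h1 hnidx
      have hAne : A ≠ ⊥ := by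
        intro hA
        rw [hA, Subgroup.card_bot] at hqA
        exact hq.one_lt.ne' (Nat.dvd_one.mp hqA)
      have hxA' := hxA hAne
      have hle : A ≤ Subgroup.centralizer ({x} : Set G) := by
        intro a ha
        rw [Subgroup.mem_centralizer_iff]
        intro y hy
        rw [Set.mem_singleton_iff] at hy
        subst hy
        exact hAcomm y hxA' a ha
      have hdvd : (Subgroup.centralizer ({x} : Set G)).index ∣ A.index :=
        Subgroup.index_dvd_of_le hle
      exact (Nat.Prime.coprime_iff_not_dvd hq).mpr (fun hdv => hnidx (hdv.trans hdvd))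
    rcases Cfsg.Agent.Lib.Helper79.irr_burnside_coprime χ x hcop with h0 | hnorm
    · exact h0
    exfalso
    apply hχ
    apply Subtype.ext
    funext y
    rw [eq_one_of_norm_eq hnc χ x hx1 hnorm y]
  -- second orthogonality between x and 1
  have hnconj : ¬ IsConj x 1 := by
    intro h
    exact hx1 (isConj_one_left.mp h)
  have horth := Cfsg.Agent.Lib.Helper78.second_orthogonality_of_not_isConj hnconj
  have h1 : ∀ χ : IrrCharacter G,
      conj ((χ : G → ℂ) 1) = (Cfsg.charDegree (χ : G → ℂ) : ℂ) := by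
    intro χ
    rw [Cfsg.Agent.Lib.Helper79.irr_apply_one_eq_charDegree χ]
    simp
  simp only [h1] at horth
  let a : IrrCharacter G → ℂ := fun χ =>
    if p ∣ Cfsg.charDegree (χ : G → ℂ) then
      ((Cfsg.charDegree (χ : G → ℂ) / p : ℕ) : ℂ) * (χ : G → ℂ) x else 0
  have ha : ∀ χ : IrrCharacter G, χ ≠ χ₀ →
      (χ : G → ℂ) x * (Cfsg.charDegree (χ : G → ℂ) : ℂ) = (p : ℂ) * a χ := by
    intro χ hχ
    rcases key χ hχ with h0 | hd
    · simp only [a]
      rw [h0]; split_ifs <;> simp
    · simp only [a]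
      rw [if_pos hd]
      obtain ⟨m, hm⟩ := hd
      rw [hm, Nat.mul_div_cancel_left m hp.pos]
      push_cast; ring
  have haint : ∀ χ : IrrCharacter G, IsIntegral ℤ (a χ) := by
    intro χ
    simp only [a]
    split_ifs
    · have hnat : IsIntegral ℤ (((Cfsg.charDegree (χ : G → ℂ) / p : ℕ) : ℂ)) := by
        generalize Cfsg.charDegree (χ : G → ℂ) / p = m
        have := isIntegral_algebraMap (R := ℤ) (A := ℂ) (x := (m : ℤ))
        simpa using this
      exact IsIntegral.mul hnat (Cfsg.Agent.Lib.Helper79.isIntegral_irr χ x)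
    · exact isIntegral_zero
  rw [← Finset.add_sum_erase Finset.univ _ (Finset.mem_univ χ₀)] at horth
  have hχ₀ : (χ₀ : G → ℂ) x * (Cfsg.charDegree (χ₀ : G → ℂ) : ℂ) = 1 := by
    have : Cfsg.charDegree (χ₀ : G → ℂ) = 1 := by
      simp [χ₀, Cfsg.charDegree]
    rw [this]; simp [χ₀]
  rw [hχ₀] at horth
  have hsum : ∑ χ ∈ Finset.univ.erase χ₀, (χ : G → ℂ) x * (Cfsg.charDegree (χ : G → ℂ) : ℂ) =
      (p : ℂ) * ∑ χ ∈ Finset.univ.erase χ₀, a χ := by
    rw [Finset.mul_sum]
    apply Finset.sum_congr rfl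
    intro χ hχ
    exact ha χ (Finset.ne_of_mem_erase hχ)
  rw [hsum] at horth
  have hS : IsIntegral ℤ (∑ χ ∈ Finset.univ.erase χ₀, a χ) :=
    IsIntegral.sum _ (fun χ _ => haint χ)
  have hpc : (p : ℂ) ≠ 0 := by exact_mod_cast hp.ne_zero
  have hval : ((1 : ℕ) : ℂ) / (p : ℂ) = - ∑ χ ∈ Finset.univ.erase χ₀, a χ := by
    field_simp
    push_cast
    linear_combination horth
  have : IsIntegral ℤ (((1 : ℕ) : ℂ) / (p : ℂ)) := by
    rw [hval]; exact hS.neg
  have := Cfsg.Agent.Lib.Helper79.dvd_of_isIntegral_div hp.ne_zero this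
  exact hp.one_lt.ne' (Nat.dvd_one.mp this)

end Simple

end Cfsg.Agent.Lib.Helper52.PrimeDeg
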