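import Mathlib
import Cfsg.Agent.Lib.Helper52.PrimeDeg.Simple

/-!
# Isaacs–Passman: all nonlinear irreducible degrees prime implies solvable (helper52)

The hypothesis passes to normal subgroups (Clifford) and to quotients (inflation), so a minimal
counterexample is nonabelian simple, which `false_of_simple_of_prime_degrees` excludes.
-/

set_option autoImplicit false
set_option linter.style.haveILetI false

namespace Cfsg.Agent.Lib.Helper52.PrimeDeg

open Cfsg

universe u

/-- The prime-degree hypothesis passes to normal subgroups. -/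
theorem prime_degrees_normal {G : Type u} [Group G] [Finite G]
    (h : ∀ χ : IrrCharacter G, Cfsg.charDegree (χ : G → ℂ) ≠ 1 →
      (Cfsg.charDegree (χ : G → ℂ)).Prime) (N : Subgroup G) [N.Normal] :
    ∀ θ : IrrCharacter N, Cfsg.charDegree (θ : N → ℂ) ≠ 1 →
      (Cfsg.charDegree (θ : N → ℂ)).Prime := by
  classical
  have := Fintype.ofFinite G
  have := Fintype.ofFinite N
  intro θ hθ
  obtain ⟨χ, hχ, hover⟩ := Cfsg.Agent.Lib.Helper80.exists_irr_over' N θ.2
  have hdvd := Cfsg.Agent.Lib.Helper80.charDegree_dvd_of_over N hχ θ.2 hover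
  have hχ1 : Cfsg.charDegree χ ≠ 1 := by
    intro h1
    rw [h1] at hdvd
    exact hθ (Nat.dvd_one.mp hdvd)
  have hpr := h ⟨χ, hχ⟩ hχ1
  rcases (Nat.dvd_prime hpr).mp hdvd with h1 | h1
  · exact absurd h1 hθ
  · rw [h1]; exact hpr

/-- The prime-degree hypothesis passes to quotients. -/
theorem prime_degrees_quotient {G : Type u} [Group G] [Finite G]
    (h : ∀ χ : IrrCharacter G, Cfsg.charDegree (χ : G → ℂ) ≠ 1 →
      (Cfsg.charDegree (χ : G → ℂ)).Prime) (N : Subgroup G) [N.Normal] :
    ∀ θ : IrrCharacter (G ⧸ N), Cfsg.charDegree (θ : G ⧸ N → ℂ) ≠ 1 →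
      (Cfsg.charDegree (θ : G ⧸ N → ℂ)).Prime := by
  intro θ hθ
  have h1 := Cfsg.Agent.Lib.Helper80.charDegree_inflate N θ
  rw [← h1] at hθ ⊢
  exact h _ hθ

theorem isSolvable_of_prime_degrees_aux : ∀ (n : ℕ) (G : Type u) [Group G] [Finite G],
    Nat.card G = n →
    (∀ χ : IrrCharacter G, Cfsg.charDegree (χ : G → ℂ) ≠ 1 →
      (Cfsg.charDegree (χ : G → ℂ)).Prime) → Group.IsSolvable G := by
  intro n
  induction n using Nat.strong_induction_on with
  | _ n ih =>
    intro G _ _ hn h
    by_cases hc : ∀ a b : G, a * b = b * a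
    · exact Group.isSolvable_of_comm hc
    by_cases hs : IsSimpleGroup G
    · exact (false_of_simple_of_prime_degrees hc h).elim
    have hnt : Nontrivial G := by
      by_contra hnt
      rw [not_nontrivial_iff_subsingleton] at hnt
      exact hc (fun a b => Subsingleton.elim _ _)
    obtain ⟨N, hN, hNbot, hNtop⟩ : ∃ N : Subgroup G, N.Normal ∧ N ≠ ⊥ ∧ N ≠ ⊤ := by
      by_contra hcon
      push Not at hcon
      apply hs
      refine ⟨fun N hN => ?_⟩
      by_cases hb : N = ⊥
      · exact Or.inl hb
      · exact Or.inr (hcon N hN hb)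
    have hcardN : Nat.card N < n := by
      rw [← hn]
      rw [← N.card_mul_index]
      have h1 : 1 < N.index := by
        rw [Nat.one_lt_iff_ne_zero_and_ne_one]
        exact ⟨Subgroup.index_ne_zero_of_finite, fun h => hNtop (Subgroup.index_eq_one.mp h)⟩
      have h2 : 0 < Nat.card N := Nat.card_pos
      nlinarith
    have hcardQ : Nat.card (G ⧸ N) < n := by
      rw [← hn, ← N.card_mul_index, ← Subgroup.index_eq_card]
      have h1 : 1 < Nat.card N := by
        rw [Nat.one_lt_iff_ne_zero_and_ne_one]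
        exact ⟨Nat.card_pos.ne', fun h => hNbot (Subgroup.card_eq_one.mp h)⟩
      have h2 : 0 < N.index := Nat.pos_of_ne_zero Subgroup.index_ne_zero_of_finite
      nlinarith
    have hsN : Group.IsSolvable N := ih _ hcardN N rfl (prime_degrees_normal h N)
    have hsQ : Group.IsSolvable (G ⧸ N) := ih _ hcardQ (G ⧸ N) rfl (prime_degrees_quotient h N)
    haveI := hsN
    haveI := hsQ
    exact Group.isSolvable_of_ker_le_range N.subtype (QuotientGroup.mk' N) (by simp)

/-- **Isaacs–Passman.** A finite group all of whose nonlinear irreducible characters have prime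
degree is solvable. -/
theorem isSolvable_of_prime_degrees {G : Type u} [Group G] [Finite G]
    (h : ∀ χ : IrrCharacter G, Cfsg.charDegree (χ : G → ℂ) ≠ 1 →
      (Cfsg.charDegree (χ : G → ℂ)).Prime) : Group.IsSolvable G :=
  isSolvable_of_prime_degrees_aux (Nat.card G) G rfl h

end Cfsg.Agent.Lib.Helper52.PrimeDeg
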