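import Mathlib
import Cfsg.Agent.Lib.Helper52.PrimeDeg.Solvable
import Cfsg.Agent.Lib.Helper75.AbelianQuot
import Cfsg.Agent.Lib.Helper15.DetChar
import Cfsg.Agent.Lib.Helper80.TwoDeg

/-!
# Characters over a normal subgroup of prime index (helper52)

* `res_eq_of_invariant_of_prime_index`: if `M ⊴ G` has prime index and `θ ∈ Irr(M)` is a
  `G`-invariant constituent of `χ_M`, then `χ_M = θ`.
* `invariant_or_index_inertia`: for `M` of prime index, `θ ∈ Irr(M)` is `G`-invariant or its inertia
  group is `M`.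
* `pow_charDegree_eq_one_of_twist_eq`: if `μ θ = θ` for a linear `μ` then `μ ^ θ(1) = 1`
  (determinants).
-/

set_option autoImplicit false
set_option linter.style.haveILetI false

namespace Cfsg.Agent.Lib.Helper52.PrimeDeg

open Cfsg
open Cfsg.Agent.Lib
open scoped ComplexConjugate

universe u

section

variable {G : Type u} [Group G] [Fintype G] (M : Subgroup G) [hM : M.Normal] [Fintype M]

omit [Fintype G] [Fintype M] in
/-- commutators lie in a normal subgroup of prime index -/
theorem comm_mem_of_prime_index [Finite G] (hidx : M.index.Prime) (x y : G) :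
    x * y * x⁻¹ * y⁻¹ ∈ M := by
  haveI : Fact M.index.Prime := ⟨hidx⟩
  have hcard : Nat.card (G ⧸ M) = M.index := (Subgroup.index_eq_card M).symm
  haveI : IsCyclic (G ⧸ M) := isCyclic_of_prime_card hcard
  rw [← QuotientGroup.eq_one_iff]
  simp only [QuotientGroup.mk_mul, QuotientGroup.mk_inv]
  obtain ⟨g, hg⟩ := IsCyclic.exists_generator (α := G ⧸ M)
  obtain ⟨a, ha⟩ := Subgroup.mem_zpowers_iff.mp (hg (x : G ⧸ M))
  obtain ⟨b, hb⟩ := Subgroup.mem_zpowers_iff.mp (hg (y : G ⧸ M))
  rw [← ha, ← hb]
  group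

/-- If `M ⊴ G` has prime index and `θ ∈ Irr(M)` is a `G`-invariant constituent of `χ_M`, then
`χ_M = θ`. -/
theorem res_eq_of_invariant_of_prime_index (hidx : M.index.Prime) {χ : G → ℂ}
    (hχ : IsIrrCharacter G χ) {θ : M → ℂ} (hθ : IsIrrCharacter M θ)
    (hover : classInner (fun m : M => χ m) θ ≠ 0)
    (hinv : ∀ g : G, Helper75.conjFun M g θ = θ) : (fun m : M => χ m) = θ := by
  classical
  obtain ⟨e, D, he, hind, hres, hcard⟩ :=
    Helper75.exists_uniform_ramification M (comm_mem_of_prime_index M hidx) hθ hinv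
  -- `e = 1`
  have he1 : e = 1 := by
    have hdvd : e ∣ M.index := by
      rw [← hcard]
      exact Dvd.dvd.mul_right (dvd_pow_self e two_ne_zero) _
    rcases (Nat.dvd_prime hidx).mp hdvd with h | h
    · exact h
    · exfalso
      rw [h] at hcard
      have hpos : 0 < M.index := hidx.pos
      have h2 : M.index * (M.index * D.card) = M.index * 1 := by
        rw [mul_one]
        calc M.index * (M.index * D.card) = M.index ^ 2 * D.card := by ring
          _ = M.index := hcard
      have h3 := Nat.eq_of_mul_eq_mul_left hpos h2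
      have h4 : M.index = 1 := Nat.eq_one_of_mul_eq_one_right h3
      exact hidx.one_lt.ne' h4
  -- `χ ∈ D`
  have hχcl : IsClassFunction G χ :=
    Helper78.IsCharacter.isClassFunction (Helper78.IsIrrCharacter.isCharacter hχ)
  have hne : classInner (indFun M θ) χ ≠ 0 := by
    rw [Helper75.frobenius_reciprocity M θ hχcl, ← Helper78.classInner_conj_symm]
    intro h
    apply hover
    have := congrArg conj h
    simpa using this
  have hmem : (⟨χ, hχ⟩ : IrrCharacter G) ∈ D := by
    by_contra hnot
    apply hne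
    rw [hind, Helper78.classInner_smul_left, Helper78.classInner_sum_left]
    rw [Finset.sum_eq_zero, mul_zero]
    intro ψ hψ
    apply Helper78.classInner_irr_ne ψ.2 hχ
    intro h
    apply hnot
    have : ψ = ⟨χ, hχ⟩ := Subtype.ext h
    rwa [← this]
  have := hres _ hmem
  rw [he1] at this
  simpa using this

omit [Fintype G] [Fintype M] in
/-- For `M` of prime index, `θ` is `G`-invariant or its inertia group has index `|G : M|`. -/
theorem invariant_or_index_inertia [Finite G] (hidx : M.index.Prime) {θ : M → ℂ}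
    (hθ : IsClassFunction M θ) :
    (∀ g : G, Helper75.conjFun M g θ = θ) ∨ (Helper75.inertia M θ).index = M.index := by
  have hle : M ≤ Helper75.inertia M θ := Helper75.le_inertia M hθ
  have hdvd : (Helper75.inertia M θ).index ∣ M.index := Subgroup.index_dvd_of_le hle
  rcases (Nat.dvd_prime hidx).mp hdvd with h | h
  · left
    intro g
    have : g ∈ Helper75.inertia M θ := by
      rw [Subgroup.index_eq_one.mp h]
      exact Subgroup.mem_top g
    exact (Helper75.mem_inertia M).mp this
  · exact Or.inr h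

end

/-- If `μ θ = θ` for a linear character `μ` and a character `θ` of degree `t`, then `μ ^ t = 1`. -/
theorem pow_eq_one_of_twist_eq {H : Type u} [Group H] [Finite H] (μ : H →* ℂˣ) {θ : H → ℂ}
    (hθ : IsCharacter H θ) (t : ℕ) (ht : θ 1 = t)
    (htw : ∀ m, ((μ m : ℂˣ) : ℂ) * θ m = θ m) (m : H) : μ m ^ t = 1 := by
  have h1 := Helper15.detChar_linear_mul μ hθ t ht m
  have h2 : (fun x => ((μ x : ℂˣ) : ℂ)) * θ = θ := by
    funext x
    rw [Pi.mul_apply]
    exact htw x
  rw [h2] at h1
  obtain ⟨δ, hδ⟩ := Helper15.exists_detHom hθ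
  rw [hδ m] at h1
  have hne : ((δ m : ℂˣ) : ℂ) ≠ 0 := Units.ne_zero _
  have h3 : ((μ m : ℂˣ) : ℂ) ^ t = 1 := by
    have h4 : ((μ m : ℂˣ) : ℂ) ^ t * ((δ m : ℂˣ) : ℂ) = 1 * ((δ m : ℂˣ) : ℂ) := by
      rw [one_mul]; exact h1.symm
    exact mul_right_cancel₀ hne h4
  apply Units.ext
  rw [Units.val_pow_eq_pow_val, h3, Units.val_one]

end Cfsg.Agent.Lib.Helper52.PrimeDeg
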