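import Mathlib
import Cfsg.Agent.Lib.Helper52.PrimeDeg.PrimeIndex
import Cfsg.Agent.Lib.Helper96.Schmidt
import Cfsg.Prelude.Def_DegreeGraph

/-!
# Isaacs–Passman: all nonlinear degrees prime implies at most three degrees (helper52)

Induction with a normal subgroup `M` of prime index `s`: `cd(M) ⊆ cd(G) ⊆ cd(M) ∪ {s}`, and if
`s ∈ cd(G) ∖ cd(M)` then all nonlinear irreducible characters of `M` have the same degree.
-/

set_option autoImplicit false
set_option linter.style.haveILetI false

namespace Cfsg.Agent.Lib.Helper52.PrimeDeg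

open Cfsg
open Cfsg.Agent.Lib
open scoped ComplexConjugate

universe u

section

variable {G : Type u} [Group G] [Finite G] (M : Subgroup G) [hM : M.Normal]

omit [Finite G] hM in
/-- the degree of the restriction -/
theorem charDegree_res (χ : G → ℂ) : charDegree (fun m : M => χ m) = charDegree χ := by
  unfold charDegree
  simp

/-- `cd(G) ⊆ cd(M) ∪ {s}` -/
theorem degree_eq_index_or_exists (hidx : M.index.Prime)
    (hG : ∀ χ : IrrCharacter G, charDegree (χ : G → ℂ) = 1 ∨ (charDegree (χ : G → ℂ)).Prime)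
    (χ : IrrCharacter G) :
    charDegree (χ : G → ℂ) = M.index ∨
      ∃ θ : IrrCharacter M, charDegree (θ : M → ℂ) = charDegree (χ : G → ℂ) := by
  classical
  have := Fintype.ofFinite G
  have := Fintype.ofFinite M
  obtain ⟨θ, hθ⟩ := Helper75.exists_constituent_res M χ.2
  rcases invariant_or_index_inertia M hidx (Helper78.isClassFunction_irr θ) with hinv | hind
  · right
    refine ⟨θ, ?_⟩
    have := res_eq_of_invariant_of_prime_index M hidx χ.2 θ.2 hθ hinv
    rw [← this, charDegree_res]
  · left
    have hdvd := Helper80.index_inertia_dvd_charDegree M χ.2 θ.2 hθ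
    rw [hind] at hdvd
    rcases hG χ with h1 | hp
    · rw [h1] at hdvd
      exact absurd (Nat.dvd_one.mp hdvd) hidx.one_lt.ne'
    · exact ((Nat.prime_dvd_prime_iff_eq hidx hp).mp hdvd).symm

/-- `cd(M) ⊆ cd(G)` -/
theorem exists_degree_eq_of_normal
    (hG : ∀ χ : IrrCharacter G, charDegree (χ : G → ℂ) = 1 ∨ (charDegree (χ : G → ℂ)).Prime)
    (θ : IrrCharacter M) :
    ∃ χ : IrrCharacter G, charDegree (χ : G → ℂ) = charDegree (θ : M → ℂ) := by
  classical
  have := Fintype.ofFinite G
  have := Fintype.ofFinite M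
  obtain ⟨χ, hχ, hover⟩ := Helper80.exists_irr_over' M θ.2
  have hdvd := Helper80.charDegree_dvd_of_over M hχ θ.2 hover
  by_cases h1 : charDegree (θ : M → ℂ) = 1
  · refine ⟨⟨fun _ => 1, Helper78.isIrrCharacter_one⟩, ?_⟩
    rw [h1]
    simp [charDegree]
  · refine ⟨⟨χ, hχ⟩, ?_⟩
    rcases hG ⟨χ, hχ⟩ with h | hp
    · exfalso
      change charDegree χ = 1 at h
      rw [h] at hdvd
      exact h1 (Nat.dvd_one.mp hdvd)
    · rcases (Nat.dvd_prime hp).mp hdvd with h | h
      · exact absurd h h1
      · exact h.symm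

/-- If `s = |G : M|` is a degree of `G` but not of `M`, all nonlinear irreducible characters of `M`
have the same degree. -/
theorem nonlinear_degrees_eq (hidx : M.index.Prime)
    (hG : ∀ χ : IrrCharacter G, charDegree (χ : G → ℂ) = 1 ∨ (charDegree (χ : G → ℂ)).Prime)
    (χs : IrrCharacter G) (hχs : charDegree (χs : G → ℂ) = M.index)
    (hs : ∀ θ : IrrCharacter M, charDegree (θ : M → ℂ) ≠ M.index)
    (θ₁ θ₂ : IrrCharacter M) (h₁ : charDegree (θ₁ : M → ℂ) ≠ 1)
    (h₂ : charDegree (θ₂ : M → ℂ) ≠ 1) :
    charDegree (θ₁ : M → ℂ) = charDegree (θ₂ : M → ℂ) := by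
  classical
  have := Fintype.ofFinite G
  have := Fintype.ofFinite M
  -- degrees of `M` are one or prime
  have hMdeg : ∀ θ : IrrCharacter M,
      charDegree (θ : M → ℂ) = 1 ∨ (charDegree (θ : M → ℂ)).Prime := by
    intro θ
    obtain ⟨χ, hχ⟩ := exists_degree_eq_of_normal M hG θ
    rw [← hχ]
    exact hG χ
  -- step a: nonlinear characters of `M` are invariant
  have stepa : ∀ θ : IrrCharacter M, charDegree (θ : M → ℂ) ≠ 1 →
      ∀ g : G, Helper75.conjFun M g (θ : M → ℂ) = (θ : M → ℂ) := by
    intro θ hθ1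
    rcases invariant_or_index_inertia M hidx (Helper78.isClassFunction_irr θ) with hinv | hind
    · exact hinv
    exfalso
    obtain ⟨χ, hχ, hover⟩ := Helper80.exists_irr_over' M θ.2
    have hdvd := Helper80.charDegree_dvd_of_over M hχ θ.2 hover
    have hdvd2 := Helper80.index_inertia_dvd_charDegree M hχ θ.2 hover
    rw [hind] at hdvd2
    have hχdeg : charDegree χ = M.index := by
      rcases hG ⟨χ, hχ⟩ with h | hp
      · change charDegree χ = 1 at h
        rw [h] at hdvd2
        exact absurd (Nat.dvd_one.mp hdvd2) hidx.one_lt.ne'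
      · exact ((Nat.prime_dvd_prime_iff_eq hidx hp).mp hdvd2).symm
    rw [hχdeg] at hdvd
    rcases (Nat.dvd_prime hidx).mp hdvd with h | h
    · exact hθ1 h
    · exact hs θ h
  -- step b: a non-invariant linear constituent of `χs`
  obtain ⟨lam, hlam⟩ := Helper75.exists_constituent_res M χs.2
  have hlaminv : ¬ ∀ g : G, Helper75.conjFun M g (lam : M → ℂ) = (lam : M → ℂ) := by
    intro hinv
    have := res_eq_of_invariant_of_prime_index M hidx χs.2 lam.2 hlam hinv
    apply hs lam
    rw [← this, charDegree_res, hχs]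
  have hlam1 : charDegree (lam : M → ℂ) = 1 := by
    have hdvd := Helper80.charDegree_dvd_of_over M χs.2 lam.2 hlam
    rw [hχs] at hdvd
    rcases (Nat.dvd_prime hidx).mp hdvd with h | h
    · exact h
    · exact absurd h (hs lam)
  push Not at hlaminv
  obtain ⟨g, hg⟩ := hlaminv
  have hlamone : (lam : M → ℂ) 1 = 1 := by
    rw [Helper78.IsCharacter.apply_one_eq_charDegree (Helper78.IsIrrCharacter.isCharacter lam.2),
      hlam1]
    simp
  obtain ⟨φ, hφ⟩ := Helper77.exists_monoidHom_of_degree_one
    (Helper78.IsIrrCharacter.isCharacter lam.2) hlamone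
  -- the twisting character
  let cg : M →* M := (MulAut.conjNormal g : MulAut M).toMonoidHom
  have hcg : ∀ m : M, cg m = ⟨g * m * g⁻¹, hM.conj_mem m m.2 g⟩ := by
    intro m
    apply Subtype.ext
    simp [cg]
  let μ : M →* ℂˣ := (φ.comp cg) / φ
  have hμ : ∀ m, μ m = φ (cg m) / φ m := fun m => rfl
  -- `μ θ = θ` for nonlinear `θ`
  have twist : ∀ θ : IrrCharacter M, charDegree (θ : M → ℂ) ≠ 1 →
      ∀ m, ((μ m : ℂˣ) : ℂ) * (θ : M → ℂ) m = (θ : M → ℂ) m := by
    intro θ hθ1 m
    have hψ : IsIrrCharacter M (fun m => ((φ m : ℂˣ) : ℂ) * (θ : M → ℂ) m) :=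
      Helper81.isIrrCharacter_monoidHom_mul φ θ.2
    have hψdeg : charDegree (fun m => ((φ m : ℂˣ) : ℂ) * (θ : M → ℂ) m) ≠ 1 := by
      have : charDegree (fun m => ((φ m : ℂˣ) : ℂ) * (θ : M → ℂ) m) = charDegree (θ : M → ℂ) := by
        unfold charDegree
        simp
      rw [this]
      exact hθ1
    have hψinv := congrFun (stepa ⟨_, hψ⟩ hψdeg g) m
    have hθinv := congrFun (stepa θ hθ1 g) m
    rw [Helper75.conjFun_apply] at hψinv hθinv
    simp only at hψinv
    rw [hθinv, ← hcg m] at hψinv
    rw [hμ, Units.val_div_eq_div_val, div_mul_eq_mul_div, hψinv]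
    field_simp
  -- conclude
  by_contra hne
  have hp₁ : (charDegree (θ₁ : M → ℂ)).Prime := (hMdeg θ₁).resolve_left h₁
  have hp₂ : (charDegree (θ₂ : M → ℂ)).Prime := (hMdeg θ₂).resolve_left h₂
  have hcop : Nat.Coprime (charDegree (θ₁ : M → ℂ)) (charDegree (θ₂ : M → ℂ)) :=
    (Nat.coprime_primes hp₁ hp₂).mpr hne
  have hμ1 : ∀ m, μ m = 1 := by
    intro m
    have e₁ := pow_eq_one_of_twist_eq μ (Helper78.IsIrrCharacter.isCharacter θ₁.2)
      (charDegree (θ₁ : M → ℂ))
      (Helper78.IsCharacter.apply_one_eq_charDegree (Helper78.IsIrrCharacter.isCharacter θ₁.2))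
      (twist θ₁ h₁) m
    have e₂ := pow_eq_one_of_twist_eq μ (Helper78.IsIrrCharacter.isCharacter θ₂.2)
      (charDegree (θ₂ : M → ℂ))
      (Helper78.IsCharacter.apply_one_eq_charDegree (Helper78.IsIrrCharacter.isCharacter θ₂.2))
      (twist θ₂ h₂) m
    have d₁ := orderOf_dvd_of_pow_eq_one e₁
    have d₂ := orderOf_dvd_of_pow_eq_one e₂
    have := Nat.dvd_gcd d₁ d₂
    rw [hcop.gcd_eq_one, Nat.dvd_one, orderOf_eq_one_iff] at this
    exact this
  apply hg
  funext m
  rw [Helper75.conjFun_apply, ← hcg m, hφ, hφ]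
  have := hμ1 m
  rw [hμ, div_eq_one] at this
  rw [this]

end

/-- finiteness of the degree set -/
theorem finite_charDegrees (G : Type u) [Group G] [Finite G] : (charDegrees G).Finite := by
  classical
  have := Fintype.ofFinite G
  have : charDegrees G = Set.range (fun χ : IrrCharacter G => charDegree (χ : G → ℂ)) := by
    ext d
    simp [charDegrees]
  rw [this]
  exact Set.finite_range _

theorem ncard_charDegrees_le_three_aux : ∀ (n : ℕ) (G : Type u) [Group G] [Finite G],
    Nat.card G = n → (∀ d ∈ charDegrees G, d = 1 ∨ d.Prime) → (charDegrees G).ncard ≤ 3 := by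
  intro n
  induction n using Nat.strong_induction_on with
  | _ n ih =>
    intro G _ _ hn hprime
    classical
    have hG : ∀ χ : IrrCharacter G,
        charDegree (χ : G → ℂ) = 1 ∨ (charDegree (χ : G → ℂ)).Prime :=
      fun χ => hprime _ ⟨χ, rfl⟩
    by_cases hc : ∀ a b : G, a * b = b * a
    · have := Fintype.ofFinite G
      have hsub : charDegrees G ⊆ {1} := by
        rintro d ⟨χ, rfl⟩
        exact Helper80.charDegree_eq_one_of_comm hc χ
      calc (charDegrees G).ncard ≤ ({1} : Set ℕ).ncard :=
            Set.ncard_le_ncard hsub (Set.finite_singleton 1)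
        _ ≤ 3 := by simp
    have hsol : Group.IsSolvable G :=
      isSolvable_of_prime_degrees (fun χ h1 => (hG χ).resolve_left h1)
    have hnt : Nontrivial G := by
      by_contra hnt
      rw [not_nontrivial_iff_subsingleton] at hnt
      exact hc (fun a b => Subsingleton.elim _ _)
    obtain ⟨M, hMn, hidx⟩ := Helper96.exists_normal_prime_index (G := G)
    have hCsub : charDegrees M ⊆ charDegrees G := by
      rintro d ⟨θ, rfl⟩
      obtain ⟨χ, hχ⟩ := exists_degree_eq_of_normal M hG θ
      exact ⟨χ, hχ⟩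
    have hBsub : charDegrees G ⊆ insert M.index (charDegrees M) := by
      rintro d ⟨χ, rfl⟩
      rcases degree_eq_index_or_exists M hidx hG χ with h | ⟨θ, hθ⟩
      · exact Or.inl h
      · exact Or.inr ⟨θ, hθ⟩
    have hcardM : Nat.card M < n := by
      rw [← hn, ← M.card_mul_index]
      have h1 : 1 < M.index := hidx.one_lt
      have h2 : 0 < Nat.card M := Nat.card_pos
      nlinarith
    have ihM : (charDegrees M).ncard ≤ 3 :=
      ih _ hcardM M rfl (fun d hd => hprime d (hCsub hd))
    by_cases hsM : M.index ∈ charDegrees M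
    · have : charDegrees G ⊆ charDegrees M := by
        intro d hd
        rcases hBsub hd with h | h
        · rw [h]; exact hsM
        · exact h
      exact (Set.ncard_le_ncard this (finite_charDegrees M)).trans ihM
    by_cases hsG : M.index ∈ charDegrees G
    · obtain ⟨χs, hχs⟩ := hsG
      have hs : ∀ θ : IrrCharacter M, charDegree (θ : M → ℂ) ≠ M.index :=
        fun θ h => hsM ⟨θ, h⟩
      -- all nonlinear degrees of `M` coincide
      obtain ⟨t, ht⟩ : ∃ t : ℕ, charDegrees M ⊆ {1, t} := by
        by_cases hex : ∃ θ₀ : IrrCharacter M, charDegree (θ₀ : M → ℂ) ≠ 1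
        · obtain ⟨θ₀, hθ₀⟩ := hex
          refine ⟨charDegree (θ₀ : M → ℂ), ?_⟩
          rintro d ⟨θ, rfl⟩
          by_cases h1 : charDegree (θ : M → ℂ) = 1
          · exact Or.inl h1
          · exact Or.inr (nonlinear_degrees_eq M hidx hG χs hχs hs θ θ₀ h1 hθ₀)
        · push Not at hex
          refine ⟨1, ?_⟩
          rintro d ⟨θ, rfl⟩
          exact Or.inl (hex θ)
      have hsub : charDegrees G ⊆ (({M.index, 1, t} : Finset ℕ) : Set ℕ) := by
        intro d hd
        rcases hBsub hd with h | h
        · simp [h]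
        · rcases ht h with h | h
          · simp [h]
          · have : d = t := h
            simp [this]
      calc (charDegrees G).ncard ≤ ((({M.index, 1, t} : Finset ℕ) : Set ℕ)).ncard :=
            Set.ncard_le_ncard hsub (Finset.finite_toSet _)
        _ = ({M.index, 1, t} : Finset ℕ).card := Set.ncard_coe_finset _
        _ ≤ 3 := Finset.card_le_three
    · have : charDegrees G ⊆ charDegrees M := by
        intro d hd
        rcases hBsub hd with h | h
        · exact absurd (h ▸ hd) hsG
        · exact h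
      exact (Set.ncard_le_ncard this (finite_charDegrees M)).trans ihM

/-- **Isaacs–Passman.** If every irreducible character degree of `G` is `1` or a prime, then `G`
has at most three character degrees. -/
theorem card_charDegrees_le_three {G : Type u} [Group G] [Finite G]
    (hprime : ∀ d ∈ charDegrees G, d = 1 ∨ d.Prime) : Nat.card ↥(charDegrees G) ≤ 3 := by
  rw [Nat.card_coe_set_eq]
  exact ncard_charDegrees_le_three_aux _ G rfl hprime

end Cfsg.Agent.Lib.Helper52.PrimeDeg
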